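import Mathlib

/-!
# (S1) of helper71's S3282 farm (#11218): the lattice argument of exceptional-character theory
(pure combinatorics).
-/

set_option autoImplicit false

namespace Cfsg.Agent.Helper63.BSW

open Finset

section vec

variable {I : Type*} [Fintype I] [DecidableEq I]

theorem S1_sq_small (x : ℤ) (h : x ^ 2 ≤ 3) : x = 0 ∨ x = 1 ∨ x = -1 := by
  have h1 : -2 < x := by nlinarith
  have h2 : x < 2 := by nlinarith
  omega

/-- an integer vector of squared norm `n ≤ 3` has entries `0, ±1` and exactly `n` nonzero entries -/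
theorem S1_support (f : I → ℤ) (n : ℕ) (hn : n ≤ 3) (h : ∑ i, f i ^ 2 = n) :
    (∀ i, f i = 0 ∨ f i = 1 ∨ f i = -1) ∧ (univ.filter (fun i => f i ≠ 0)).card = n := by
  have hval : ∀ i, f i = 0 ∨ f i = 1 ∨ f i = -1 := by
    intro i
    apply S1_sq_small
    have h1 : f i ^ 2 ≤ ∑ j, f j ^ 2 :=
      Finset.single_le_sum (f := fun j => f j ^ 2) (fun j _ => sq_nonneg (f j)) (mem_univ i)
    rw [h] at h1
    have h2 : (n : ℤ) ≤ 3 := by exact_mod_cast hn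
    linarith
  refine ⟨hval, ?_⟩
  have hsq : ∀ i, f i ^ 2 = if f i ≠ 0 then 1 else 0 := by
    intro i
    rcases hval i with h0 | h1 | h1
    · rw [h0]; simp
    · rw [h1]; simp
    · rw [h1]; simp
  have h3 : (∑ i, f i ^ 2) = ((univ.filter (fun i => f i ≠ 0)).card : ℤ) := by
    rw [Finset.sum_congr rfl (fun i _ => hsq i), Finset.sum_boole]
  rw [h] at h3
  exact_mod_cast h3.symm

/-- a sum against a vector supported on a finset -/
theorem S1_sum_support (f g : I → ℤ) (S : Finset I) (hS : ∀ i, i ∉ S → f i = 0) :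
    ∑ i, f i * g i = ∑ i ∈ S, f i * g i := by
  symm
  apply Finset.sum_subset (subset_univ S)
  intro i _ hi
  rw [hS i hi, zero_mul]

/-- the basic evaluation: `∑ ([i=o] + x [i=X] - y [i=L]) g i` -/
theorem S1_sum3 (o X L : I) (x y : ℤ) (g : I → ℤ) :
    ∑ i, ((if i = o then 1 else 0) + (if i = X then x else 0) - (if i = L then y else 0)) * g i =
      g o + x * g X - y * g L := by
  have h : ∀ i, ((if i = o then (1 : ℤ) else 0) + (if i = X then x else 0) -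
      (if i = L then y else 0)) * g i =
      (if i = o then g i else 0) + (if i = X then x * g i else 0) -
        (if i = L then y * g i else 0) := by
    intro i
    split_ifs <;> ring
  rw [Finset.sum_congr rfl (fun i _ => h i), Finset.sum_sub_distrib, Finset.sum_add_distrib,
    Finset.sum_ite_eq', Finset.sum_ite_eq', Finset.sum_ite_eq']
  simp

/-- shifting by `e_o` -/
theorem S1_shift (f : I → ℤ) (o : I) (hfo : f o = 1) (n : ℤ) (h : ∑ i, f i * f i = n) :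
    ∑ i, (f i - (if i = o then 1 else 0)) ^ 2 = n - 1 := by
  have h1 : ∀ i, (f i - (if i = o then (1 : ℤ) else 0)) ^ 2 =
      f i * f i - (if i = o then 2 * f i - 1 else 0) := by
    intro i; split_ifs <;> ring
  rw [Finset.sum_congr rfl (fun i _ => h1 i), Finset.sum_sub_distrib, Finset.sum_ite_eq', h]
  simp [hfo]

/-- a vector of squared norm 3 with a known support point -/
theorem S1_three_with (g : I → ℤ) (h : ∑ i, g i ^ 2 = 3) (X : I) (hX : g X ≠ 0) :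
    (∀ i, g i = 0 ∨ g i = 1 ∨ g i = -1) ∧
    ∃ Y₁ Y₂ : I, Y₁ ≠ Y₂ ∧ Y₁ ≠ X ∧ Y₂ ≠ X ∧ g Y₁ ≠ 0 ∧ g Y₂ ≠ 0 ∧
      ∀ i, i ≠ X → i ≠ Y₁ → i ≠ Y₂ → g i = 0 := by
  obtain ⟨hval, hcard⟩ := S1_support g 3 le_rfl (by exact_mod_cast h)
  refine ⟨hval, ?_⟩
  have hXS : X ∈ univ.filter (fun i => g i ≠ 0) := by simp [hX]
  have h2 : ((univ.filter (fun i => g i ≠ 0)).erase X).card = 2 := by
    rw [Finset.card_erase_of_mem hXS, hcard]
  obtain ⟨Y₁, Y₂, hne, hS⟩ := Finset.card_eq_two.mp h2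
  have hY₁ : Y₁ ∈ (univ.filter (fun i => g i ≠ 0)).erase X := by rw [hS]; simp
  have hY₂ : Y₂ ∈ (univ.filter (fun i => g i ≠ 0)).erase X := by rw [hS]; simp
  simp only [mem_erase, mem_filter, mem_univ, true_and] at hY₁ hY₂
  refine ⟨Y₁, Y₂, hne, hY₁.1, hY₂.1, hY₁.2, hY₂.2, ?_⟩
  intro i hiX hi1 hi2
  by_contra hgi
  have hmem : i ∈ (univ.filter (fun i => g i ≠ 0)).erase X := by simp [hiX, hgi]
  rw [hS] at hmem
  simp only [mem_insert, mem_singleton] at hmem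
  tauto

/-- the canonical form of the non-real rows: `e_o + e_P - e_N` -/
def S1Form (o : I) (f : I → ℤ) (P N : I) : Prop :=
  P ≠ o ∧ N ≠ o ∧ P ≠ N ∧
    ∀ i, f i = (if i = o then 1 else 0) + (if i = P then 1 else 0) - (if i = N then 1 else 0)

theorem S1Form.at_o {o : I} {f : I → ℤ} {P N : I} (h : S1Form o f P N) : f o = 1 := by
  rw [h.2.2.2 o]
  simp [h.1.symm, h.2.1.symm]

theorem S1Form.at_P {o : I} {f : I → ℤ} {P N : I} (h : S1Form o f P N) : f P = 1 := by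
  rw [h.2.2.2 P]
  simp [h.1, h.2.2.1]

theorem S1Form.at_N {o : I} {f : I → ℤ} {P N : I} (h : S1Form o f P N) : f N = -1 := by
  rw [h.2.2.2 N]
  simp [h.2.1, h.2.2.1.symm]

theorem S1Form.unique {o : I} {f : I → ℤ} {P N P' N' : I} (h : S1Form o f P N)
    (h' : S1Form o f P' N') : P = P' ∧ N = N' := by
  constructor
  · have h1 := h'.2.2.2 P
    rw [h.at_P] at h1
    by_contra hne
    simp only [h.1, hne, if_false] at h1
    split_ifs at h1 <;> omega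
  · have h1 := h'.2.2.2 N
    rw [h.at_N] at h1
    by_contra hne
    simp only [h.2.1, hne, if_false] at h1
    split_ifs at h1 <;> omega

/-- two rows in canonical form with inner product 2 share exactly one of `P`, `N` -/
theorem S1Form.pair {o : I} {f g : I → ℤ} {P N P' N' : I} (h : S1Form o f P N)
    (h' : S1Form o g P' N') (hfg : ∑ i, f i * g i = 2) :
    (P = P' ∧ N ≠ N') ∨ (N = N' ∧ P ≠ P') := by
  have hf : f = fun i => (if i = o then 1 else 0) + (if i = P then (1 : ℤ) else 0) -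
      (if i = N then (1 : ℤ) else 0) := funext h.2.2.2
  rw [hf] at hfg
  have h3 := S1_sum3 o P N 1 1 g
  rw [h3, h'.at_o, h'.2.2.2 P, h'.2.2.2 N] at hfg
  have hPo := h.1
  have hNo := h.2.1
  have hPN := h.2.2.1
  have hPN' := h'.2.2.1
  simp only [hPo, hNo, if_false] at hfg
  have k1 : (if P = P' then (1 : ℤ) else 0) = 1 ∧ P = P' ∨
      (if P = P' then (1 : ℤ) else 0) = 0 ∧ P ≠ P' := by
    by_cases e : P = P' <;> simp [e]
  have k2 : (if N = N' then (1 : ℤ) else 0) = 1 ∧ N = N' ∨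
      (if N = N' then (1 : ℤ) else 0) = 0 ∧ N ≠ N' := by
    by_cases e : N = N' <;> simp [e]
  have k3 : (if P = N' then (1 : ℤ) else 0) = 1 ∧ P = N' ∨
      (if P = N' then (1 : ℤ) else 0) = 0 ∧ P ≠ N' := by
    by_cases e : P = N' <;> simp [e]
  have k4 : (if N = P' then (1 : ℤ) else 0) = 1 ∧ N = P' ∨
      (if N = P' then (1 : ℤ) else 0) = 0 ∧ N ≠ P' := by
    by_cases e : N = P' <;> simp [e]
  rcases k1 with ⟨v1, e1⟩ | ⟨v1, e1⟩ <;> rcases k2 with ⟨v2, e2⟩ | ⟨v2, e2⟩ <;>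
    rcases k3 with ⟨v3, e3⟩ | ⟨v3, e3⟩ <;> rcases k4 with ⟨v4, e4⟩ | ⟨v4, e4⟩ <;>
    rw [v1, v2, v3, v4] at hfg <;>
    first
      | omega
      | exact Or.inl ⟨e1, e2⟩
      | exact Or.inr ⟨e2, e1⟩
      | exact absurd (e3.trans e2.symm) hPN
      | exact absurd (e1.trans e4.symm) hPN

/-- the canonical form exists for rows of squared norm 3 -/
theorem S1_canon (o : I) (deg : I → ℤ) (hdeg : ∀ i, 0 < deg i) (hdo : deg o = 1) (f : I → ℤ)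
    (hfo : f o = 1) (hn : ∑ i, f i * f i = 3) (hd : ∑ i, f i * deg i = 0) :
    ∃ P N : I, S1Form o f P N := by
  have hn' : ∑ i, f i ^ 2 = 3 := by
    rw [← hn]; exact Finset.sum_congr rfl (fun i _ => sq (f i))
  obtain ⟨hval, Y₁, Y₂, h12, h1o, h2o, hf1, hf2, h0⟩ :=
    S1_three_with f hn' o (by rw [hfo]; exact one_ne_zero)
  have hform : ∀ i, f i = (if i = o then 1 else 0) + (if i = Y₁ then f Y₁ else 0) -
      (if i = Y₂ then - f Y₂ else 0) := by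
    intro i
    by_cases hio : i = o
    · subst hio; simp [hfo, h1o.symm, h2o.symm]
    · by_cases hi1 : i = Y₁
      · subst hi1; simp [hio, h12]
      · by_cases hi2 : i = Y₂
        · subst hi2; simp [hio, hi1]
        · simp [hio, hi1, hi2, h0 i hio hi1 hi2]
  have hf : f = fun i => (if i = o then 1 else 0) + (if i = Y₁ then f Y₁ else 0) -
      (if i = Y₂ then - f Y₂ else 0) := funext hform
  have hd' := hd
  rw [hf] at hd'
  have h3 := S1_sum3 o Y₁ Y₂ (f Y₁) (- f Y₂) deg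
  rw [h3, hdo] at hd'
  have hd1 := hdeg Y₁
  have hd2 := hdeg Y₂
  rcases hval Y₁ with e1 | e1 | e1
  · exact absurd e1 hf1
  · rcases hval Y₂ with e2 | e2 | e2
    · exact absurd e2 hf2
    · rw [e1, e2] at hd'; exfalso; linarith
    · refine ⟨Y₁, Y₂, h1o, h2o, h12, ?_⟩
      intro i; rw [hform i, e1, e2]; simp
  · rcases hval Y₂ with e2 | e2 | e2
    · exact absurd e2 hf2
    · refine ⟨Y₂, Y₁, h2o, h1o, h12.symm, ?_⟩
      intro i; rw [hform i, e1, e2]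
      split_ifs <;> ring
    · rw [e1, e2] at hd'; exfalso; linarith

/-- norm² 3 with two known support points -/
theorem S1_two_given (g : I → ℤ) (h : ∑ i, g i ^ 2 = 3) (x y : I) (hxy : x ≠ y)
    (hx : g x ≠ 0) (hy : g y ≠ 0) :
    ∃ C : I, C ≠ x ∧ C ≠ y ∧ g C ≠ 0 ∧ ∀ i, i ≠ x → i ≠ y → i ≠ C → g i = 0 := by
  obtain ⟨-, Y₁, Y₂, h12, h1x, h2x, hg1, hg2, h0⟩ := S1_three_with g h x hx
  by_cases hy1 : y = Y₁
  · subst hy1
    exact ⟨Y₂, h2x, h12.symm, hg2, h0⟩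
  · by_cases hy2 : y = Y₂
    · subst hy2
      exact ⟨Y₁, h1x, h12, hg1, fun i hix hiy hi1 => h0 i hix hi1 hiy⟩
    · exact absurd (h0 y hxy.symm hy1 hy2) hy

/-- norm² 3 with three known support points -/
theorem S1_three_given (g : I → ℤ) (h : ∑ i, g i ^ 2 = 3) (x y z : I) (hxy : x ≠ y)
    (hxz : x ≠ z) (hyz : y ≠ z) (hx : g x ≠ 0) (hy : g y ≠ 0) (hz : g z ≠ 0) :
    ∀ i, i ≠ x → i ≠ y → i ≠ z → g i = 0 := by
  obtain ⟨C, hCx, hCy, hgC, h0⟩ := S1_two_given g h x y hxy hx hy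
  have hzC : z = C := by
    by_contra hne
    exact hz (h0 z hxz.symm hyz.symm hne)
  subst hzC
  exact h0

/-- a sum against a vector supported on three points -/
theorem S1_sum_three (g d : I → ℤ) (x y z : I) (hxy : x ≠ y) (hxz : x ≠ z) (hyz : y ≠ z)
    (h0 : ∀ i, i ≠ x → i ≠ y → i ≠ z → g i = 0) :
    ∑ i, g i * d i = g x * d x + g y * d y + g z * d z := by
  rw [S1_sum_support g d {x, y, z}]
  · rw [Finset.sum_insert (by simp [hxy, hxz]), Finset.sum_insert (by simp [hyz]),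
      Finset.sum_singleton]
    ring
  · intro i hi
    simp only [mem_insert, mem_singleton, not_or] at hi
    exact h0 i hi.1 hi.2.1 hi.2.2

end vec

section main

variable {I M : Type*} [Fintype I] [DecidableEq I] [Fintype M] [DecidableEq M]

/-- parts (i), (ii) of the conclusion of `lattice_main` -/
structure S1Good (o : I) (ι : M → M) (σ : M) (a : M → I → ℤ) (δ : ℤ) (X : I) (Λ : M → I) :
    Prop where
  hδ : δ = 1 ∨ δ = -1
  hX : X ≠ o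
  form : ∀ μ, μ ≠ σ → Λ μ ≠ o ∧ Λ μ ≠ X ∧ Λ (ι μ) = Λ μ ∧
    ∀ i, a μ i = (if i = o then 1 else 0) + (if i = X then δ else 0) -
      (if i = Λ μ then δ else 0)
  inj : ∀ μ ν, μ ≠ σ → ν ≠ σ → Λ μ = Λ ν → μ = ν ∨ μ = ι ν

theorem S1_good_exists (o : I) (ι : M → M) (hι : ∀ μ, ι (ι μ) = μ) (σ : M) (hσ : ι σ = σ)
    (a : M → I → ℤ) (ha_inv : ∀ μ, a (ι μ) = a μ)
    (hgram2 : ∀ μ ν, μ ≠ σ → ν ≠ σ → μ ≠ ν → μ ≠ ι ν → ∑ i, a μ i * a ν i = 2)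
    (P N : M → I) (hPN : ∀ μ, μ ≠ σ → S1Form o (a μ) (P μ) (N μ))
    (μ₁ : M) (hμ₁ : μ₁ ≠ σ) :
    ∃ (δ : ℤ) (X : I) (Λ : M → I), S1Good o ι σ a δ X Λ := by
  have hιne : ∀ μ, μ ≠ σ → ι μ ≠ σ := by
    intro μ h h'
    apply h
    rw [← hι μ, h', hσ]
  have hinv : ∀ μ, μ ≠ σ → P (ι μ) = P μ ∧ N (ι μ) = N μ := by
    intro μ h
    have h1 := hPN (ι μ) (hιne μ h)
    rw [ha_inv] at h1
    exact h1.unique (hPN μ h)
  have hpair : ∀ μ ν, μ ≠ σ → ν ≠ σ → μ ≠ ν → μ ≠ ι ν →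
      (P μ = P ν ∧ N μ ≠ N ν) ∨ (N μ = N ν ∧ P μ ≠ P ν) := by
    intro μ ν hμ hν h1 h2
    exact (hPN μ hμ).pair (hPN ν hν) (hgram2 μ ν hμ hν h1 h2)
  have horb : ∀ μ ν, μ ≠ σ → ν ≠ σ → (μ = ν ∨ μ = ι ν) → P μ = P ν ∧ N μ = N ν := by
    intro μ ν hμ hν h
    rcases h with rfl | rfl
    · exact ⟨rfl, rfl⟩
    · exact hinv ν hν
  -- dichotomy
  have hdich : (∀ μ, μ ≠ σ → P μ = P μ₁) ∨ (∀ μ, μ ≠ σ → N μ = N μ₁) := by
    by_contra hcon
    push Not at hcon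
    obtain ⟨⟨μ₂, hμ₂, hP2⟩, ⟨μ₃, hμ₃, hN3⟩⟩ := hcon
    -- μ₂ not in the orbit of μ₁
    have h21 : ¬ (μ₂ = μ₁ ∨ μ₂ = ι μ₁) := fun h => hP2 (horb μ₂ μ₁ hμ₂ hμ₁ h).1
    have h31 : ¬ (μ₃ = μ₁ ∨ μ₃ = ι μ₁) := fun h => hN3 (horb μ₃ μ₁ hμ₃ hμ₁ h).2
    push Not at h21 h31
    have hN2 : N μ₂ = N μ₁ := by
      rcases hpair μ₂ μ₁ hμ₂ hμ₁ h21.1 h21.2 with h | h
      · exact absurd h.1 hP2
      · exact h.1
    have hP3 : P μ₃ = P μ₁ := by
      rcases hpair μ₃ μ₁ hμ₃ hμ₁ h31.1 h31.2 with h | h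
      · exact h.1
      · exact absurd h.1 hN3
    have h23 : ¬ (μ₂ = μ₃ ∨ μ₂ = ι μ₃) := by
      intro h
      have := (horb μ₂ μ₃ hμ₂ hμ₃ h).1
      exact hP2 (this.trans hP3)
    push Not at h23
    rcases hpair μ₂ μ₃ hμ₂ hμ₃ h23.1 h23.2 with h | h
    · exact hP2 (h.1.trans hP3)
    · exact hN3 (h.1.symm.trans hN2)
  rcases hdich with hP | hN
  · refine ⟨1, P μ₁, N, Or.inl rfl, (hPN μ₁ hμ₁).1, ?_, ?_⟩
    · intro μ hμ
      have hf := hPN μ hμ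
      refine ⟨hf.2.1, ?_, (hinv μ hμ).2, ?_⟩
      · rw [← hP μ hμ]; exact hf.2.2.1.symm
      · intro i
        rw [hf.2.2.2 i, hP μ hμ]
    · intro μ ν hμ hν hΛ
      by_contra hcon
      push Not at hcon
      rcases hpair μ ν hμ hν hcon.1 hcon.2 with h | h
      · exact h.2 hΛ
      · exact h.2 ((hP μ hμ).trans (hP ν hν).symm)
  · refine ⟨-1, N μ₁, P, Or.inr rfl, (hPN μ₁ hμ₁).2.1, ?_, ?_⟩
    · intro μ hμ
      have hf := hPN μ hμ
      refine ⟨hf.1, ?_, (hinv μ hμ).1, ?_⟩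
      · rw [← hN μ hμ]; exact hf.2.2.1
      · intro i
        rw [hf.2.2.2 i, hN μ hμ]
        split_ifs <;> ring
    · intro μ ν hμ hν hΛ
      by_contra hcon
      push Not at hcon
      rcases hpair μ ν hμ hν hcon.1 hcon.2 with h | h
      · exact h.2 ((hN μ hμ).trans (hN ν hν).symm)
      · exact h.2 hΛ

/-- the key relation between the real row and the others -/
theorem S1_key {o : I} {ι : M → M} {σ : M} {a : M → I → ℤ} {δ : ℤ} {X : I} {Λ : M → I}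
    (good : S1Good o ι σ a δ X Λ) (hσo : a σ o = 1)
    (hσμ : ∀ μ, μ ≠ σ → ∑ i, a μ i * a σ i = 2) (μ : M) (hμ : μ ≠ σ) :
    a σ X - a σ (Λ μ) = δ := by
  have h1 := hσμ μ hμ
  have hf : a μ = fun i => (if i = o then 1 else 0) + (if i = X then δ else 0) -
      (if i = Λ μ then δ else 0) := funext (good.form μ hμ).2.2.2
  rw [hf, S1_sum3, hσo] at h1
  rcases good.hδ with rfl | rfl <;> linarith

/-- the shifted real row `c = a σ - e_o` -/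
theorem S1_c_exists (o : I) (σ : M) (a : M → I → ℤ) (hσo : a σ o = 1)
    (hσn : ∑ i, a σ i * a σ i = 4) :
    ∃ c : I → ℤ, (∀ i, c i = a σ i - (if i = o then 1 else 0)) ∧ ∑ i, c i ^ 2 = 3 ∧ c o = 0 ∧
      (∀ i, i ≠ o → c i = a σ i) ∧ (∀ i, c i = 0 ∨ c i = 1 ∨ c i = -1) := by
  refine ⟨fun i => a σ i - (if i = o then 1 else 0), fun _ => rfl, ?_, ?_, ?_, ?_⟩
  · rw [S1_shift _ o hσo 4 hσn]; norm_num
  · simp [hσo]
  · intro i hi; simp [hi]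
  · have h3 : ∑ i, (a σ i - (if i = o then 1 else 0)) ^ 2 = ((3 : ℕ) : ℤ) := by
      rw [S1_shift _ o hσo 4 hσn]; norm_num
    exact (S1_support _ 3 le_rfl h3).1

theorem S1_caseA {o : I} {ι : M → M} {σ : M} {a : M → I → ℤ} {δ : ℤ} {X : I} {Λ : M → I}
    (good : S1Good o ι σ a δ X Λ) (hσo : a σ o = 1) (hσn : ∑ i, a σ i * a σ i = 4)
    (hσμ : ∀ μ, μ ≠ σ → ∑ i, a μ i * a σ i = 2) (hX : a σ X = δ) :
    ∃ (Y₁ Y₂ : I) (ε₁ ε₂ : ℤ), (ε₁ = 1 ∨ ε₁ = -1) ∧ (ε₂ = 1 ∨ ε₂ = -1) ∧ Y₁ ≠ Y₂ ∧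
      Y₁ ≠ o ∧ Y₂ ≠ o ∧ Y₁ ≠ X ∧ Y₂ ≠ X ∧ (∀ μ, μ ≠ σ → Λ μ ≠ Y₁ ∧ Λ μ ≠ Y₂) ∧
      ∀ i, a σ i = (if i = o then 1 else 0) + (if i = X then δ else 0) +
        (if i = Y₁ then ε₁ else 0) + (if i = Y₂ then ε₂ else 0) := by
  obtain ⟨c, hc, hc3, hco, hca, hcval⟩ := S1_c_exists o σ a hσo hσn
  have hδ0 : δ ≠ 0 := by rcases good.hδ with h | h <;> rw [h] <;> norm_num
  have hcX : c X = δ := by rw [hca X good.hX, hX]
  obtain ⟨-, Y₁, Y₂, h12, h1X, h2X, hc1, hc2, h0⟩ :=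
    S1_three_with c hc3 X (by rw [hcX]; exact hδ0)
  have h1o : Y₁ ≠ o := by intro h; rw [h] at hc1; exact hc1 hco
  have h2o : Y₂ ≠ o := by intro h; rw [h] at hc2; exact hc2 hco
  have hΛ0 : ∀ μ, μ ≠ σ → c (Λ μ) = 0 := by
    intro μ hμ
    have hk := S1_key good hσo hσμ μ hμ
    rw [hca _ (good.form μ hμ).1]
    rw [hX] at hk
    linarith
  refine ⟨Y₁, Y₂, c Y₁, c Y₂, ?_, ?_, h12, h1o, h2o, h1X, h2X, ?_, ?_⟩
  · rcases hcval Y₁ with h | h | h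
    · exact absurd h hc1
    · exact Or.inl h
    · exact Or.inr h
  · rcases hcval Y₂ with h | h | h
    · exact absurd h hc2
    · exact Or.inl h
    · exact Or.inr h
  · intro μ hμ
    constructor
    · intro h; apply hc1; rw [← h]; exact hΛ0 μ hμ
    · intro h; apply hc2; rw [← h]; exact hΛ0 μ hμ
  · intro i
    by_cases hio : i = o
    · rw [hio, hσo]
      simp [good.hX.symm, h1o.symm, h2o.symm]
    · by_cases hiX : i = X
      · rw [hiX, hX]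
        simp [good.hX, h1X.symm, h2X.symm]
      · by_cases hi1 : i = Y₁
        · rw [hi1, ← hca Y₁ h1o]
          simp [h1o, h1X, h12]
        · by_cases hi2 : i = Y₂
          · rw [hi2, ← hca Y₂ h2o]
            simp [h2o, h2X, h12.symm]
          · rw [← hca i hio, h0 i hiX hi1 hi2]
            simp [hio, hiX, hi1, hi2]

theorem S1_finish (o : I) (deg : I → ℤ) (hdeg : ∀ i, 0 < deg i) (hdo : deg o = 1)
    (ι : M → M) (hι : ∀ μ, ι (ι μ) = μ) (σ : M) (hσ : ι σ = σ) (hσu : ∀ μ, ι μ = μ → μ = σ)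
    (a : M → I → ℤ) (hσo : a σ o = 1) (hσn : ∑ i, a σ i * a σ i = 4)
    (hσμ : ∀ μ, μ ≠ σ → ∑ i, a μ i * a σ i = 2)
    (hdeg0 : ∀ μ, ∑ i, a μ i * deg i = 0)
    (μ₁ : M) (hμ₁ : μ₁ ≠ σ) (δ : ℤ) (X : I) (Λ : M → I) (good : S1Good o ι σ a δ X Λ) :
    ∃ (δ : ℤ) (X : I) (Λ : M → I), S1Good o ι σ a δ X Λ ∧
      ((∃ (Y₁ Y₂ : I) (ε₁ ε₂ : ℤ), (ε₁ = 1 ∨ ε₁ = -1) ∧ (ε₂ = 1 ∨ ε₂ = -1) ∧ Y₁ ≠ Y₂ ∧
          Y₁ ≠ o ∧ Y₂ ≠ o ∧ Y₁ ≠ X ∧ Y₂ ≠ X ∧ (∀ μ, μ ≠ σ → Λ μ ≠ Y₁ ∧ Λ μ ≠ Y₂) ∧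
          ∀ i, a σ i = (if i = o then 1 else 0) + (if i = X then δ else 0) +
            (if i = Y₁ then ε₁ else 0) + (if i = Y₂ then ε₂ else 0)) ∨
       (Fintype.card M = 5 ∧ ∃ (C : I) (ε : ℤ), (ε = 1 ∨ ε = -1) ∧ C ≠ o ∧ C ≠ X ∧
          (∀ μ, μ ≠ σ → Λ μ ≠ C) ∧
          ∀ i, a σ i = (if i = o then 1 else 0) - (if ∃ μ, μ ≠ σ ∧ i = Λ μ then δ else 0) +
            (if i = C then ε else 0))) := by
  have hιne : ∀ μ, μ ≠ σ → ι μ ≠ σ := by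
    intro μ h h'
    apply h
    rw [← hι μ, h', hσ]
  have hιμ : ∀ μ, μ ≠ σ → μ ≠ ι μ := fun μ h h' => h (hσu μ h'.symm)
  obtain ⟨c, hc, hc3, hco, hca, hcval⟩ := S1_c_exists o σ a hσo hσn
  have hδ0 : δ ≠ 0 := by rcases good.hδ with h | h <;> rw [h] <;> norm_num
  have key := S1_key good hσo hσμ
  by_cases hX : a σ X = δ
  · exact ⟨δ, X, Λ, good, Or.inl (S1_caseA good hσo hσn hσμ hX)⟩
  -- now `a σ X = 0` and all `a σ (Λ μ) = -δ`
  have hvX : a σ X = 0 ∨ a σ X = 1 ∨ a σ X = -1 := by rw [← hca X good.hX]; exact hcval X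
  have hvΛ : ∀ μ, μ ≠ σ → (a σ (Λ μ) = 0 ∨ a σ (Λ μ) = 1 ∨ a σ (Λ μ) = -1) := by
    intro μ hμ; rw [← hca _ (good.form μ hμ).1]; exact hcval _
  have hX0 : a σ X = 0 := by
    have k := key μ₁ hμ₁
    have hv1 := hvΛ μ₁ hμ₁
    rcases good.hδ with hd | hd <;> rcases hvX with h | h | h <;>
      rcases hv1 with h' | h' | h' <;> omega
  have hΛ : ∀ μ, μ ≠ σ → a σ (Λ μ) = -δ := by
    intro μ hμ
    have k := key μ hμ
    rw [hX0] at k
    linarith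
  have hcΛ : ∀ μ, μ ≠ σ → c (Λ μ) ≠ 0 := by
    intro μ hμ
    rw [hca _ (good.form μ hμ).1, hΛ μ hμ]
    exact neg_ne_zero.mpr hδ0
  by_cases hw1 : ∀ μ, μ ≠ σ → μ = μ₁ ∨ μ = ι μ₁
  · -- one orbit: swap the roles of `X` and `Λ μ₁`
    have hΛeq : ∀ μ, μ ≠ σ → Λ μ = Λ μ₁ := by
      intro μ hμ
      rcases hw1 μ hμ with h | h
      · rw [h]
      · rw [h]; exact (good.form μ₁ hμ₁).2.2.1
    have good' : S1Good o ι σ a (-δ) (Λ μ₁) (fun _ => X) := by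
      refine ⟨?_, (good.form μ₁ hμ₁).1, ?_, ?_⟩
      · rcases good.hδ with h | h <;> simp [h]
      · intro μ hμ
        refine ⟨good.hX, (good.form μ₁ hμ₁).2.1.symm, rfl, ?_⟩
        intro i
        rw [(good.form μ hμ).2.2.2 i, hΛeq μ hμ]
        split_ifs <;> ring
      · intro μ ν hμ hν _
        rcases hw1 μ hμ with h1 | h1 <;> rcases hw1 ν hν with h2 | h2
        · left; rw [h1, h2]
        · right; rw [h1, h2, hι]
        · right; rw [h1, h2]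
        · left; rw [h1, h2]
    exact ⟨-δ, Λ μ₁, fun _ => X, good', Or.inl (S1_caseA good' hσo hσn hσμ (hΛ μ₁ hμ₁))⟩
  push Not at hw1
  obtain ⟨μ₂, hμ₂, h21, h21'⟩ := hw1
  have hΛ12 : Λ μ₁ ≠ Λ μ₂ := by
    intro h
    rcases good.inj μ₂ μ₁ hμ₂ hμ₁ h.symm with h' | h'
    · exact h21 h'
    · exact h21' h'
  by_cases hw2 : ∀ μ, μ ≠ σ → μ = μ₁ ∨ μ = ι μ₁ ∨ μ = μ₂ ∨ μ = ι μ₂
  · -- two orbits: case (B)
    have hΛeq : ∀ μ, μ ≠ σ → Λ μ = Λ μ₁ ∨ Λ μ = Λ μ₂ := by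
      intro μ hμ
      rcases hw2 μ hμ with h | h | h | h
      · left; rw [h]
      · left; rw [h]; exact (good.form μ₁ hμ₁).2.2.1
      · right; rw [h]
      · right; rw [h]; exact (good.form μ₂ hμ₂).2.2.1
    obtain ⟨C, hC1, hC2, hcC, h0⟩ :=
      S1_two_given c hc3 (Λ μ₁) (Λ μ₂) hΛ12 (hcΛ μ₁ hμ₁) (hcΛ μ₂ hμ₂)
    have hCo : C ≠ o := by intro h; rw [h] at hcC; exact hcC hco
    have hCX : C ≠ X := by
      intro h; rw [h, hca X good.hX, hX0] at hcC; exact hcC rfl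
    have hΛC : ∀ μ, μ ≠ σ → Λ μ ≠ C := by
      intro μ hμ
      rcases hΛeq μ hμ with h | h <;> rw [h]
      · exact hC1.symm
      · exact hC2.symm
    refine ⟨δ, X, Λ, good, Or.inr ⟨?_, C, c C, ?_, hCo, hCX, hΛC, ?_⟩⟩
    · have huniv : (univ : Finset M) = {σ, μ₁, ι μ₁, μ₂, ι μ₂} := by
        ext μ
        simp only [mem_univ, mem_insert, mem_singleton, true_iff]
        by_cases h : μ = σ
        · exact Or.inl h
        · rcases hw2 μ h with h | h | h | h <;> simp [h]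
      have e1 : σ ≠ μ₁ := hμ₁.symm
      have e2 : σ ≠ ι μ₁ := (hιne μ₁ hμ₁).symm
      have e3 : σ ≠ μ₂ := hμ₂.symm
      have e4 : σ ≠ ι μ₂ := (hιne μ₂ hμ₂).symm
      have e5 : μ₁ ≠ ι μ₁ := hιμ μ₁ hμ₁
      have e6 : μ₁ ≠ μ₂ := fun h => h21 h.symm
      have e7 : μ₁ ≠ ι μ₂ := by
        intro h; apply h21'; rw [h, hι]
      have e8 : ι μ₁ ≠ μ₂ := fun h => h21' h.symm
      have e9 : ι μ₁ ≠ ι μ₂ := by
        intro h; apply e6; rw [← hι μ₁, h, hι]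
      have e10 : μ₂ ≠ ι μ₂ := hιμ μ₂ hμ₂
      rw [← Finset.card_univ, huniv, Finset.card_insert_of_notMem,
        Finset.card_insert_of_notMem, Finset.card_insert_of_notMem, Finset.card_pair e10]
      · simp [e8, e9]
      · simp [e5, e6, e7]
      · simp [e1, e2, e3, e4]
    · rcases hcval C with h | h | h
      · exact absurd h hcC
      · exact Or.inl h
      · exact Or.inr h
    · intro i
      by_cases hio : i = o
      · have hne : ¬ ∃ μ, μ ≠ σ ∧ i = Λ μ := by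
          rintro ⟨μ, hμ, h⟩
          exact (good.form μ hμ).1 (h.symm.trans hio)
        rw [if_pos hio, if_neg hne, if_neg (fun h => hCo (h.symm.trans hio)), hio, hσo]
        ring
      · by_cases hex : ∃ μ, μ ≠ σ ∧ i = Λ μ
        · obtain ⟨μ, hμ, h⟩ := hex
          have hiC : i ≠ C := by rw [h]; exact hΛC μ hμ
          rw [if_neg hio, if_pos ⟨μ, hμ, h⟩, if_neg hiC, h, hΛ μ hμ]
          ring
        · by_cases hiC : i = C
          · rw [if_neg hio, if_neg hex, if_pos hiC, hiC, hca C hCo]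
            ring
          · have hi1 : i ≠ Λ μ₁ := fun h => hex ⟨μ₁, hμ₁, h⟩
            have hi2 : i ≠ Λ μ₂ := fun h => hex ⟨μ₂, hμ₂, h⟩
            rw [if_neg hio, if_neg hex, if_neg hiC, ← hca i hio, h0 i hi1 hi2 hiC]
            ring
  · -- three orbits: contradiction with the degree equation
    exfalso
    push Not at hw2
    obtain ⟨μ₃, hμ₃, h31, h31', h32, h32'⟩ := hw2
    have hΛ13 : Λ μ₁ ≠ Λ μ₃ := by
      intro h
      rcases good.inj μ₃ μ₁ hμ₃ hμ₁ h.symm with h' | h'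
      · exact h31 h'
      · exact h31' h'
    have hΛ23 : Λ μ₂ ≠ Λ μ₃ := by
      intro h
      rcases good.inj μ₃ μ₂ hμ₃ hμ₂ h.symm with h' | h'
      · exact h32 h'
      · exact h32' h'
    have h0 := S1_three_given c hc3 (Λ μ₁) (Λ μ₂) (Λ μ₃) hΛ12 hΛ13 hΛ23 (hcΛ μ₁ hμ₁)
      (hcΛ μ₂ hμ₂) (hcΛ μ₃ hμ₃)
    have hsum := S1_sum_three c deg (Λ μ₁) (Λ μ₂) (Λ μ₃) hΛ12 hΛ13 hΛ23 h0
    have hcdeg : ∑ i, c i * deg i = -1 := by
      have h1 : ∀ i, c i * deg i = a σ i * deg i - (if i = o then deg i else 0) := by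
        intro i; rw [hc i]; split_ifs <;> ring
      rw [Finset.sum_congr rfl (fun i _ => h1 i), Finset.sum_sub_distrib, hdeg0 σ,
        Finset.sum_ite_eq']
      simp [hdo]
    have hd : ∀ μ, μ ≠ σ → deg o + δ * deg X - δ * deg (Λ μ) = 0 := by
      intro μ hμ
      have h1 := hdeg0 μ
      have hf : a μ = fun i => (if i = o then 1 else 0) + (if i = X then δ else 0) -
          (if i = Λ μ then δ else 0) := funext (good.form μ hμ).2.2.2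
      rw [hf, S1_sum3] at h1
      exact h1
    have hd1 := hd μ₁ hμ₁
    have hd2 := hd μ₂ hμ₂
    have hd3 := hd μ₃ hμ₃
    rw [hsum, hca _ (good.form μ₁ hμ₁).1, hca _ (good.form μ₂ hμ₂).1,
      hca _ (good.form μ₃ hμ₃).1, hΛ μ₁ hμ₁, hΛ μ₂ hμ₂, hΛ μ₃ hμ₃] at hcdeg
    rw [hdo] at hd1 hd2 hd3
    have p1 := hdeg (Λ μ₁)
    have p2 := hdeg (Λ μ₂)
    have p3 := hdeg (Λ μ₃)
    rcases good.hδ with hd' | hd' <;> rw [hd'] at hcdeg hd1 hd2 hd3 <;> omega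

theorem lattice_main {I M : Type*} [Fintype I] [DecidableEq I] [Fintype M] [DecidableEq M]
    (o : I) (deg : I → ℤ) (hdeg : ∀ i, 0 < deg i) (hdo : deg o = 1)
    (ι : M → M) (hι : ∀ μ, ι (ι μ) = μ) (σ : M) (hσ : ι σ = σ) (hσu : ∀ μ, ι μ = μ → μ = σ)
    (hM : 3 ≤ Fintype.card M)
    (a : M → I → ℤ) (ha_inv : ∀ μ, a (ι μ) = a μ) (hao : ∀ μ, a μ o = 1)
    (hgram : ∀ μ ν, ∑ i, a μ i * a ν i =
      2 + (if μ = ν then 1 else 0) + (if μ = ι ν then 1 else 0))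
    (hdeg0 : ∀ μ, ∑ i, a μ i * deg i = 0) :
    ∃ (δ : ℤ) (X : I) (Λ : M → I), (δ = 1 ∨ δ = -1) ∧ X ≠ o ∧
      (∀ μ, μ ≠ σ → Λ μ ≠ o ∧ Λ μ ≠ X ∧ Λ (ι μ) = Λ μ ∧
        ∀ i, a μ i = (if i = o then 1 else 0) + (if i = X then δ else 0) -
          (if i = Λ μ then δ else 0)) ∧
      (∀ μ ν, μ ≠ σ → ν ≠ σ → Λ μ = Λ ν → μ = ν ∨ μ = ι ν) ∧
      ((∃ (Y₁ Y₂ : I) (ε₁ ε₂ : ℤ), (ε₁ = 1 ∨ ε₁ = -1) ∧ (ε₂ = 1 ∨ ε₂ = -1) ∧ Y₁ ≠ Y₂ ∧
          Y₁ ≠ o ∧ Y₂ ≠ o ∧ Y₁ ≠ X ∧ Y₂ ≠ X ∧ (∀ μ, μ ≠ σ → Λ μ ≠ Y₁ ∧ Λ μ ≠ Y₂) ∧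
          ∀ i, a σ i = (if i = o then 1 else 0) + (if i = X then δ else 0) +
            (if i = Y₁ then ε₁ else 0) + (if i = Y₂ then ε₂ else 0)) ∨
       (Fintype.card M = 5 ∧ ∃ (C : I) (ε : ℤ), (ε = 1 ∨ ε = -1) ∧ C ≠ o ∧ C ≠ X ∧
          (∀ μ, μ ≠ σ → Λ μ ≠ C) ∧
          ∀ i, a σ i = (if i = o then 1 else 0) - (if ∃ μ, μ ≠ σ ∧ i = Λ μ then δ else 0) +
            (if i = C then ε else 0))) := by
  have hιμ : ∀ μ, μ ≠ σ → μ ≠ ι μ := fun μ h h' => h (hσu μ h'.symm)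
  have hn3 : ∀ μ, μ ≠ σ → ∑ i, a μ i * a μ i = 3 := by
    intro μ hμ; rw [hgram μ μ]; simp [hιμ μ hμ]
  have hσn : ∑ i, a σ i * a σ i = 4 := by rw [hgram σ σ]; simp [hσ]
  have hσμ : ∀ μ, μ ≠ σ → ∑ i, a μ i * a σ i = 2 := by
    intro μ hμ; rw [hgram μ σ, hσ]; simp [hμ]
  have hgram2 : ∀ μ ν, μ ≠ σ → ν ≠ σ → μ ≠ ν → μ ≠ ι ν → ∑ i, a μ i * a ν i = 2 := by
    intro μ ν _ _ h1 h2; rw [hgram μ ν]; simp [h1, h2]
  obtain ⟨μ₁, hμ₁⟩ : ∃ μ₁, μ₁ ≠ σ := Fintype.exists_ne_of_one_lt_card (by omega) σ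
  have : Nonempty I := ⟨o⟩
  have hex : ∀ μ, μ ≠ σ → ∃ P N : I, S1Form o (a μ) P N := fun μ hμ =>
    S1_canon o deg hdeg hdo (a μ) (hao μ) (hn3 μ hμ) (hdeg0 μ)
  choose! P N hPN using hex
  obtain ⟨δ₀, X₀, Λ₀, good₀⟩ := S1_good_exists o ι hι σ hσ a ha_inv hgram2 P N hPN μ₁ hμ₁
  obtain ⟨δ, X, Λ, good, hAB⟩ := S1_finish o deg hdeg hdo ι hι σ hσ hσu a (hao σ) hσn hσμ hdeg0
    μ₁ hμ₁ δ₀ X₀ Λ₀ good₀
  exact ⟨δ, X, Λ, good.hδ, good.hX, good.form, good.inj, hAB⟩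

end main

end Cfsg.Agent.Helper63.BSW
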